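import Cfsg.Agent.EqLemmas

/-!
# Shintani descent, abstract form

`mem_fix`, `norm_eq`, `descent_fixed_iff`, `twist_iff`, `iterate_descent`.
-/

set_option autoImplicit false

namespace Cfsg.Agent.Shintani

variable {X : Type*} [Group X]

theorem mem_fix {τ : MulAut X} {x : X} :
    x ∈ (MulEquiv.toMonoidHom τ).eqLocus (MonoidHom.id X) ↔ τ x = x := Iff.rfl

theorem pow_apply_comm (σ : MulAut X) (i : ℕ) (x : X) : σ ((σ ^ i) x) = (σ ^ i) (σ x) := by
  rw [← MulAut.mul_apply, ← MulAut.mul_apply, ← pow_succ', pow_succ]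

theorem pow_fix {σ : MulAut X} {x : X} (h : σ x = x) (i : ℕ) : (σ ^ i) x = x := by
  induction i with
  | zero => rfl
  | succ i ih => rw [pow_succ, MulAut.mul_apply, h, ih]

theorem norm_eq (σ : MulAut X) (g a : X) (ha : g = a * (σ a)⁻¹) (d : ℕ) :
    ((List.range d).map (fun i => (σ ^ i) g)).prod = a * ((σ ^ d) a)⁻¹ := by
  induction d with
  | zero => simp
  | succ d ih =>
    rw [List.range_succ, List.map_append, List.prod_append, ih, List.map_singleton,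
      List.prod_singleton, ha, map_mul, map_inv, mul_assoc, inv_mul_cancel_left, pow_succ,
      MulAut.mul_apply]

/-- `g = a σ(a)⁻¹` is fixed by `σ^e` iff `x = σ^e(a)⁻¹ a` is fixed by `σ`. -/
theorem descent_fixed_iff (σ : MulAut X) (e : ℕ) (g a : X) (ha : g = a * (σ a)⁻¹) :
    (σ ^ e) g = g ↔ σ (((σ ^ e) a)⁻¹ * a) = ((σ ^ e) a)⁻¹ * a := by
  rw [map_mul σ, map_inv σ, pow_apply_comm, ha, map_mul (σ ^ e), map_inv (σ ^ e)]
  constructor
  · intro h
    have h2 := congrArg (fun z => ((σ ^ e) a)⁻¹ * z * σ a) h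
    simpa [mul_assoc] using h2
  · intro h
    have h2 := congrArg (fun z => (σ ^ e) a * z * (σ a)⁻¹) h
    simpa [mul_assoc] using h2

/-- Twisted conjugacy under fixed points of `σ^e` versus conjugacy under fixed points of `σ`. -/
theorem twist_iff (σ : MulAut X) (e : ℕ) (g g' a b k : X)
    (ha : g = a * (σ a)⁻¹) (hb : g' = b * (σ b)⁻¹) :
    ((σ ^ e) k = k ∧ g' = k * g * (σ k)⁻¹) ↔
      (σ (b⁻¹ * k * a) = b⁻¹ * k * a ∧
        ((σ ^ e) b)⁻¹ * b = (b⁻¹ * k * a) * (((σ ^ e) a)⁻¹ * a) * (b⁻¹ * k * a)⁻¹) := by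
  have hσ : g' = k * g * (σ k)⁻¹ ↔ σ (b⁻¹ * k * a) = b⁻¹ * k * a := by
    rw [ha, hb, map_mul σ, map_mul σ, map_inv σ]
    constructor
    · intro h
      have h2 := congrArg (fun z => b⁻¹ * z * (σ k * σ a)) h
      simpa [mul_assoc] using h2
    · intro h
      have h2 := congrArg (fun z => b * z * ((σ a)⁻¹ * (σ k)⁻¹)) h
      simpa [mul_assoc] using h2
  have key : σ (b⁻¹ * k * a) = b⁻¹ * k * a →
      ((σ ^ e) k = k ↔
        ((σ ^ e) b)⁻¹ * b = (b⁻¹ * k * a) * (((σ ^ e) a)⁻¹ * a) * (b⁻¹ * k * a)⁻¹) := by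
    intro hh
    have h1 := pow_fix hh e
    rw [map_mul, map_mul, map_inv] at h1
    constructor
    · intro hk
      rw [hk] at h1
      nth_rewrite 1 [← h1]
      simp [mul_assoc]
    · intro hx
      have hkk : (σ ^ e) k = (σ ^ e) b * (b⁻¹ * k * a) * ((σ ^ e) a)⁻¹ := by
        rw [← h1]; simp [mul_assoc]
      have hy := congrArg (fun z => (σ ^ e) b * z * (b⁻¹ * k)) hx
      simp [mul_assoc] at hy
      rw [hkk]
      simpa [mul_assoc] using hy.symm
  constructor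
  · rintro ⟨hk, hg⟩
    exact ⟨hσ.1 hg, (key (hσ.1 hg)).1 hk⟩
  · rintro ⟨hh, hx⟩
    exact ⟨(key hh).2 hx, hσ.2 hh⟩

theorem iterate_descent (σ : MulAut X) (e : ℕ) (a : X)
    (hx : σ (((σ ^ e) a)⁻¹ * a) = ((σ ^ e) a)⁻¹ * a) (d : ℕ) :
    ((σ ^ (e * d)) a)⁻¹ * a = (((σ ^ e) a)⁻¹ * a) ^ d := by
  induction d with
  | zero => simp
  | succ d ih =>
    have h1 := pow_fix hx (e * d)
    rw [map_mul, map_inv] at h1
    rw [pow_succ' (((σ ^ e) a)⁻¹ * a), ← ih]
    nth_rewrite 1 [← h1]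
    rw [Nat.mul_succ, pow_add, MulAut.mul_apply]
    simp [mul_assoc]

end Cfsg.Agent.Shintani
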